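/-
Pruned enumeration of integer vectors with prescribed sum and sum of squares.
-/
import Mathlib

namespace Groth.Agent.ConicEnum

/-- The candidates `-11, …, 11`. -/
def cands : List ℤ := (List.range 23).map fun i : ℕ => (i : ℤ) - 11

/-- All lists of length `n` with sum `s` and sum of squares `q`, found by pruned search. -/
def search : ℕ → ℤ → ℤ → List (List ℤ)
  | 0, s, q => if s = 0 ∧ q = 0 then [[]] else []
  | n + 1, s, q =>
    ((cands.filter fun b => decide (b * b ≤ q ∧ (s - b) * (s - b) ≤ n * (q - b * b))).flatMap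
      fun b => (search n (s - b) (q - b * b)).map (b :: ·))

theorem mem_cands {b : ℤ} (h : b * b ≤ 121) : b ∈ cands := by
  have h1 : -11 ≤ b := by nlinarith
  have h2 : b ≤ 11 := by nlinarith
  unfold cands
  rw [List.mem_map]
  exact ⟨(b + 11).toNat, List.mem_range.mpr (by omega), by omega⟩

theorem sq_sum_le : ∀ (l : List ℤ), l.sum * l.sum ≤ l.length * (l.map fun b => b * b).sum := by
  intro l
  have h := sq_sum_le_card_mul_sum_sq (s := (Finset.univ : Finset (Fin l.length))) (f := fun i => l[i.1])
  simp only [Finset.card_univ, Fintype.card_fin, Fin.sum_univ_getElem] at h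
  have h2 : (∑ i : Fin l.length, l[i.1] ^ 2) = (l.map fun b => b * b).sum := by
    rw [← Fin.sum_univ_fun_getElem l (fun b => b * b)]
    exact Finset.sum_congr rfl fun i _ => by rw [pow_two]
  rw [h2, pow_two] at h
  exact h

theorem mem_search : ∀ (n : ℕ) (s q : ℤ), q ≤ 121 → ∀ l : List ℤ,
    (l ∈ search n s q ↔ l.length = n ∧ l.sum = s ∧ (l.map fun b => b * b).sum = q)
  | 0, s, q, _, l => by
    unfold search
    constructor
    · intro h
      split_ifs at h with hc
      · rw [List.mem_singleton] at h; subst h; simp [hc.1, hc.2]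
      · exact absurd h List.not_mem_nil
    · rintro ⟨hl, rfl, rfl⟩
      rw [List.length_eq_zero_iff] at hl
      subst hl
      simp
  | n + 1, s, q, hq, l => by
    simp only [search, List.mem_flatMap, List.mem_filter, List.mem_map, decide_eq_true_eq]
    constructor
    · rintro ⟨b, ⟨-, hb1, -⟩, l', hl', rfl⟩
      rw [mem_search n _ _ (by nlinarith [mul_self_nonneg b]) l'] at hl'
      obtain ⟨h1, h2, h3⟩ := hl'
      simp [h1, h2, h3]
    · rintro ⟨hl, hs, hq'⟩
      rcases l with _ | ⟨b, l⟩
      · simp at hl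
      simp only [List.length_cons, add_left_inj] at hl
      simp only [List.sum_cons] at hs
      simp only [List.map_cons, List.sum_cons] at hq'
      have hnn : 0 ≤ (l.map fun b => b * b).sum :=
        List.sum_nonneg (by simp only [List.mem_map]; rintro _ ⟨c, -, rfl⟩; exact mul_self_nonneg c)
      have hcs := sq_sum_le l
      rw [hl] at hcs
      refine ⟨b, ⟨mem_cands (by linarith), by linarith, ?_⟩, l, ?_, rfl⟩
      · rw [← hs, ← hq']; simpa using hcs
      · rw [mem_search n _ _ (by nlinarith [mul_self_nonneg b]) l]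
        exact ⟨hl, by linarith, by linarith⟩

theorem nodup_search : ∀ (n : ℕ) (s q : ℤ), (search n s q).Nodup
  | 0, s, q => by unfold search; split_ifs <;> simp
  | n + 1, s, q => by
    unfold search
    rw [List.nodup_flatMap]
    refine ⟨fun b _ => (nodup_search n _ _).map (List.cons_injective), ?_⟩
    refine List.Pairwise.imp (R := fun b b' : ℤ => b ≠ b') ?_ ((show cands.Nodup by decide).filter _)
    · intro b b' hbb l h1 h2
      obtain ⟨x, -, rfl⟩ := List.mem_map.mp h1
      obtain ⟨y, -, hy⟩ := List.mem_map.mp h2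
      exact hbb (List.cons.inj hy).1.symm

/-- The conic vectors `a :: b` in dimension `n`. -/
def conics (n : ℕ) : List (List ℤ) :=
  (List.range 12).flatMap fun a : ℕ => (search n (3 * (a : ℤ) - 2) ((a : ℤ) * a)).map ((a : ℤ) :: ·)

theorem nodup_conics (n : ℕ) : (conics n).Nodup := by
  unfold conics
  rw [List.nodup_flatMap]
  refine ⟨fun a _ => (nodup_search n _ _).map List.cons_injective, ?_⟩
  refine List.nodup_range.imp ?_
  intro a a' h l h1 h2
  obtain ⟨x, -, rfl⟩ := List.mem_map.mp h1
  obtain ⟨y, -, hy⟩ := List.mem_map.mp h2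
  exact h (by exact_mod_cast (List.cons.inj hy).1.symm)

theorem mem_conics {n : ℕ} (hn : n ≤ 8) (v : Fin (n + 1) → ℤ) :
    List.ofFn v ∈ conics n ↔
      v 0 * v 0 = ∑ i : Fin n, v i.succ * v i.succ ∧ ∑ i : Fin n, v i.succ = 3 * v 0 - 2 := by
  rw [List.ofFn_succ]
  unfold conics
  simp only [List.mem_flatMap, List.mem_range, List.mem_map]
  have hsum : (List.ofFn fun i : Fin n => v i.succ).sum = ∑ i : Fin n, v i.succ := List.sum_ofFn
  have hsq : ((List.ofFn fun i : Fin n => v i.succ).map fun b => b * b).sum =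
      ∑ i : Fin n, v i.succ * v i.succ := by rw [List.map_ofFn, List.sum_ofFn]; rfl
  constructor
  · rintro ⟨a, ha, l, hl, he⟩
    obtain ⟨h0, rfl⟩ := List.cons.inj he
    rw [mem_search n _ _ (by nlinarith) _] at hl
    rw [hsum, hsq] at hl
    rw [← h0]
    exact ⟨hl.2.2.symm, hl.2.1⟩
  · rintro ⟨h1, h2⟩
    have hcs := sq_sum_le (List.ofFn fun i : Fin n => v i.succ)
    rw [hsum, hsq, List.length_ofFn, h2, ← h1] at hcs
    have hn' : (n : ℤ) ≤ 8 := by exact_mod_cast hn
    have h8 : (3 * v 0 - 2) * (3 * v 0 - 2) ≤ 8 * (v 0 * v 0) :=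
      hcs.trans (mul_le_mul_of_nonneg_right hn' (mul_self_nonneg _))
    have hlo : 1 ≤ v 0 := by nlinarith
    have hhi : v 0 ≤ 11 := by nlinarith
    refine ⟨(v 0).toNat, by omega, List.ofFn fun i : Fin n => v i.succ, ?_, by rw [Int.toNat_of_nonneg (by omega)]⟩
    rw [Int.toNat_of_nonneg (by omega), mem_search n _ _ (by nlinarith) _, hsum, hsq, List.length_ofFn]
    exact ⟨rfl, h2, h1.symm⟩

theorem ncard_conics {n : ℕ} (hn : n ≤ 8) :
    {v : Fin (n + 1) → ℤ | v 0 * v 0 = ∑ i : Fin n, v i.succ * v i.succ ∧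
      ∑ i : Fin n, v i.succ = 3 * v 0 - 2}.ncard = (conics n).length := by
  classical
  rw [← List.toFinset_card_of_nodup (nodup_conics n), ← Set.ncard_coe_finset]
  refine Set.ncard_congr (fun v _ => List.ofFn v) (fun v hv => List.mem_toFinset.mpr ((mem_conics hn v).mpr hv))
    (fun v w _ _ h => List.ofFn_injective h) (fun l hl => ?_)
  rw [Finset.mem_coe, List.mem_toFinset] at hl
  have hlen : l.length = n + 1 := by
    unfold conics at hl
    simp only [List.mem_flatMap, List.mem_map, List.mem_range] at hl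
    obtain ⟨a, ha, l', hl', rfl⟩ := hl
    rw [mem_search n _ _ (by nlinarith) _] at hl'
    simp [hl'.1]
  have he : List.ofFn (fun i : Fin (n + 1) => l[i.1]'(by omega)) = l := by
    refine List.ext_getElem (by simp [hlen]) fun i h1 h2 => by rw [List.getElem_ofFn]
  exact ⟨_, (mem_conics hn _).mp (he.symm ▸ hl), he⟩

end Groth.Agent.ConicEnum
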